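import Mathlib
import Cfsg.Agent.H613.KS.Par
import Cfsg.Agent.H703.KS.Val
import Cfsg.Agent.H162.KS.Dim
import Cfsg.Agent.H421.KS.Eb
import Cfsg.Agent.H421.KS.PTwo
import Cfsg.Agent.H755.KS.Val
import Cfsg.Agent.H690.KS.Lat
import Cfsg.Agent.Blocks.CyclicUpper
import Cfsg.Agent.S0908

/-!
# The parity lemma of helper634, route 2 (descent over `ℂ`)

* `parity` : for an idempotent `e` of `K[G]` with local coefficients, `K` unramified at `p`, `∑ χ(e)² (a - v(χ(1)))` is
  even;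
* `par` : the form `H613.KS.Par.Par`.
-/

set_option autoImplicit false

open Cfsg Cfsg.Agent.H162.KS Cfsg.Agent.Blocks.LocalRing

namespace Cfsg.Agent.H703.KS

universe u

/-- the local integers in `K` -/
def locO (K : Type*) [Field K] [Algebra K ℂ] {p : ℕ} {M : Ideal AlgInt} (hM : IsPModular p M) : Subring K :=
  (locRing hM).comap (algebraMap K ℂ)

theorem mem_locO {K : Type*} [Field K] [Algebra K ℂ] {p : ℕ} {M : Ideal AlgInt} (hM : IsPModular p M) {z : K} :
    z ∈ locO K hM ↔ MemLocalRing M (algebraMap K ℂ z) := Iff.rfl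

theorem p_mem {K : Type*} [Field K] [Algebra K ℂ] {p : ℕ} {M : Ideal AlgInt} (hM : IsPModular p M) :
    (p : K) ∈ locO K hM := by
  rw [mem_locO, map_natCast]
  exact memLocalRing_natCast hM p

theorem p_inv_not_mem {K : Type*} [Field K] [Algebra K ℂ] {p : ℕ} {M : Ideal AlgInt} (hM : IsPModular p M) :
    (p : K)⁻¹ ∉ locO K hM := by
  rw [mem_locO, map_inv₀, map_natCast]
  intro h
  have h1 : MemLocalIdeal M ((p : ℂ) * (p : ℂ)⁻¹) := memLocalIdeal_mul_right hM (memLocalIdeal_prime hM) h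
  have h2 : (p : ℂ) ≠ 0 := by exact_mod_cast hM.1.ne_zero
  rw [mul_inv_cancel₀ h2] at h1
  exact not_memLocalIdeal_one hM h1

theorem un_natCast {K : Type*} [Field K] [Algebra K ℂ] {p : ℕ} {M : Ideal AlgInt} (hM : IsPModular p M) {n : ℕ}
    (hn : ¬ p ∣ n) : Un (locO K hM) (n : K) := by
  have hn0 : n ≠ 0 := by rintro rfl; exact hn (dvd_zero _)
  have : CharZero K := (algebraMap K ℂ).charZero
  refine ⟨?_, ?_, by exact_mod_cast hn0⟩
  · rw [mem_locO, map_natCast]
    exact memLocalRing_natCast hM n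
  · rw [mem_locO, map_inv₀, map_natCast]
    exact memLocalRing_inv (memLocalRing_natCast hM n) (by rwa [memLocalIdeal_natCast_iff hM])

theorem natCast_fac {K : Type*} [Field K] [Algebra K ℂ] {p : ℕ} {M : Ideal AlgInt} (hM : IsPModular p M) {n : ℕ}
    (hn : n ≠ 0) : ∃ u : K, Un (locO K hM) u ∧ (n : K) = (p : K) ^ n.factorization p * u := by
  refine ⟨((n / p ^ n.factorization p : ℕ) : K), un_natCast hM (Nat.not_dvd_ordCompl hM.1 hn), ?_⟩
  rw [← Nat.cast_pow, ← Nat.cast_mul, Nat.ordProj_mul_ordCompl_eq_self]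

/-- the quotient of two natural numbers -/
theorem div_fac {K : Type*} [Field K] [Algebra K ℂ] {p : ℕ} {M : Ideal AlgInt} (hM : IsPModular p M) {c n : ℕ}
    (hc : c ∣ n) (hn : n ≠ 0) :
    ∃ u : K, Un (locO K hM) u ∧ (c : K) / (n : K) = ((p : K) ^ (n.factorization p - c.factorization p))⁻¹ * u := by
  have hc0 : c ≠ 0 := fun h => hn (by rw [h, zero_dvd_iff] at hc; exact hc)
  have : CharZero K := (algebraMap K ℂ).charZero
  obtain ⟨u, hu, hcu⟩ := natCast_fac (K := K) hM hc0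
  obtain ⟨w, hw, hnw⟩ := natCast_fac (K := K) hM hn
  refine ⟨u * w⁻¹, hu.mul hw.inv, ?_⟩
  have hle : c.factorization p ≤ n.factorization p := (Nat.factorization_le_iff_dvd hc0 hn).2 hc p
  have hp0 : (p : K) ≠ 0 := by exact_mod_cast hM.1.ne_zero
  have hw0 := hw.2.2
  rw [hcu, hnw]
  obtain ⟨k, hk⟩ := Nat.exists_eq_add_of_le hle
  rw [hk, Nat.add_sub_cancel_left, pow_add]
  field_simp

theorem parity {K : Type*} [Field K] [Algebra K ℂ] {G : Type u} [Group G] [Fintype G] [Fintype (IrrCharacter G)]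
    {p : ℕ} {M : Ideal AlgInt} (hM : IsPModular p M)
    (hfac : ∀ z : K, z ≠ 0 → ∃ (n : ℤ) (u : K), z = (p : K) ^ n * u ∧ MemLocalRing M (algebraMap K ℂ u) ∧
      MemLocalRing M (algebraMap K ℂ u)⁻¹)
    {e : MonoidAlgebra K G} (he : e * e = e) (heO : ∀ g, MemLocalRing M (algebraMap K ℂ (e.coeff g)))
    (m : IrrCharacter G → ℕ) (hm : ∀ χ : IrrCharacter G, ev (χ : G → ℂ) e = m χ)
    (hval : ∀ χ : IrrCharacter G, m χ ≠ 0 → ∀ g, ∃ k : K, algebraMap K ℂ k = (χ : G → ℂ) g) :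
    Even (∑ χ : IrrCharacter G, m χ ^ 2 *
      ((Nat.card G).factorization p - (charDegree (χ : G → ℂ)).factorization p)) := by
  have hfac' : ∀ z : K, z ≠ 0 → ∃ (n : ℤ) (u : K), u ∈ locO K hM ∧ u⁻¹ ∈ locO K hM ∧ z = (p : K) ^ n * u := by
    intro z hz
    obtain ⟨n, u, h1, h2, h3⟩ := hfac z hz
    exact ⟨n, u, h2, by rw [mem_locO, map_inv₀]; exact h3, h1⟩
  obtain ⟨d, hd, h1, h2⟩ := H162.KS.exists_unit (p_mem hM) (p_inv_not_mem hM) hfac' he heO m hm hval
  have hdiv : ∀ χ : IrrCharacter G, ∃ u : K, Un (locO K hM) u ∧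
      (charDegree (χ : G → ℂ) : K) / (Nat.card G : K) =
        ((p : K) ^ ((Nat.card G).factorization p - (charDegree (χ : G → ℂ)).factorization p))⁻¹ * u :=
    fun χ => div_fac hM (Blocks.CyclicUpper.charDegree_dvd χ.2) Nat.card_pos.ne'
  choose u hu hr using hdiv
  exact even_sum (p_mem hM) (p_inv_not_mem hM) hfac' hu hr hd h1 h2

theorem par : H613.KS.Par.Par.{u} := by
  intro G _ _ M hM B hB D hD hE H hH lam m hm
  classical
  have := Fact.mk Nat.prime_two
  have := Fintype.ofFinite G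
  have : Finite (IrrCharacter G) := Characters.Core.finite_irr
  have := Fintype.ofFinite (IrrCharacter G)
  set N := ordCompl[2] (Nat.card G) with hN
  have hN0 : N ≠ 0 := (Nat.ordCompl_pos 2 Nat.card_pos.ne').ne'
  have hNodd : ¬ 2 ∣ N := Nat.not_dvd_ordCompl Nat.prime_two Nat.card_pos.ne'
  obtain ⟨ζ, hζ⟩ : ∃ ζ : ℂ, IsPrimitiveRoot ζ N := ⟨_, Complex.isPrimitiveRoot_exp N hN0⟩
  have hexp : ∀ x ∈ D, x ^ 2 = 1 := fun x hx => by rw [sq]; exact hE.inv x hx
  have hval : ∀ χ ∈ B, ∀ g, ∃ k : IntermediateField.adjoin ℚ {ζ},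
      algebraMap (IntermediateField.adjoin ℚ {ζ}) ℂ k = (χ : G → ℂ) g :=
    fun χ hχ g => H421.KS.irr_mem_range' hM hB hD hexp hχ hζ g
  have hHN : Nat.card ↥H ∣ N := by
    have h1 : Nat.Coprime (Nat.card ↥H) (2 ^ (Nat.card G).factorization 2) :=
      ((Nat.Prime.coprime_iff_not_dvd Nat.prime_two).2 hH).symm.pow_right _
    refine h1.dvd_of_dvd_mul_left ?_
    rw [hN, Nat.ordProj_mul_ordCompl_eq_self]
    exact Subgroup.card_subgroup_dvd_card H
  have hroot : ∀ z : ℂ, z ^ Nat.card ↥H = 1 → ∃ k : IntermediateField.adjoin ℚ {ζ},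
      algebraMap (IntermediateField.adjoin ℚ {ζ}) ℂ k = z := by
    intro z hz
    obtain ⟨c, hc⟩ := hHN
    exact ⟨⟨z, H421.KS.mem_adjoin_of_pow hN0 hζ (by rw [hc, pow_mul, hz, one_pow])⟩, rfl⟩
  obtain ⟨e, he, heO, h1, h0⟩ := H421.KS.exists_e hM hB hval H hH lam hroot m hm
  have hev : ∀ χ : IrrCharacter G, ev (χ : G → ℂ) e = ((if χ ∈ B then m χ else 0 : ℕ) : ℂ) := by
    intro χ
    split_ifs with hχ
    · exact h1 χ hχ
    · rw [h0 χ hχ, Nat.cast_zero]
  have key := parity hM (fun z hz => H755.KS.Val.exists_unit' hM hNodd hζ.pow_eq_one z hz) he heO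
    (fun χ => if χ ∈ B then m χ else 0) hev (fun χ hχ g => hval χ (by
      by_contra h
      exact hχ (if_neg h)) g)
  have hcard := S0908.result 2 M hM B hB D hD
  rw [hE.card] at hcard
  have hdef : blockDefect 2 B = 4 := by
    have h3 : (2 : ℕ) ^ 4 = 2 ^ blockDefect 2 B := by rw [← hcard]; norm_num
    exact (Nat.pow_right_injective le_rfl h3).symm
  have hsum : ∑ᶠ χ ∈ B, (m χ) ^ 2 * (4 - blockHeight 2 B (χ : G → ℂ)) =
      ∑ χ : IrrCharacter G, (if χ ∈ B then m χ else 0) ^ 2 *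
        ((Nat.card G).factorization 2 - (charDegree (χ : G → ℂ)).factorization 2) := by
    rw [finsum_mem_eq_finite_toFinset_sum _ (Set.toFinite B), ← Finset.sum_subset (Finset.subset_univ
      (Set.toFinite B).toFinset)]
    · refine Finset.sum_congr rfl fun χ hχ => ?_
      have hχB : χ ∈ B := (Set.Finite.mem_toFinset _).1 hχ
      rw [if_pos hχB]
      congr 1
      have h4 : sInf ((fun ψ : IrrCharacter G => (charDegree (ψ : G → ℂ)).factorization 2) '' B) ≤
          (charDegree (χ : G → ℂ)).factorization 2 := Nat.sInf_le ⟨χ, hχB, rfl⟩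
      rw [blockDefect] at hdef
      rw [blockHeight]
      omega
    · intro χ _ hχ
      have hχB : χ ∉ B := fun h => hχ ((Set.Finite.mem_toFinset _).2 h)
      rw [if_neg hχB]
      simp
  rw [hsum]
  exact key

end Cfsg.Agent.H703.KS
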