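import Mathlib
import Cfsg.Prelude.Def_Blocks
import Cfsg.Agent.Characters.Core
import Cfsg.Agent.Characters.Counting
import Cfsg.Agent.Blocks.Central
import Cfsg.Agent.Blocks.LocalRing

/-!
# The corner `e K[G] e` of the group algebra at an idempotent `e`

* `coeff_one_eq_chExt` : the coefficient of `1` as a sum over the characters;
* `finrank_corner` : `dim e K[G] e = ∑ χ(e)²`;
* `mulVec_eq`: the Gram matrix of the form `(x y)(1)`, nondegenerate, self-dual generators `e g e`.
-/

set_option autoImplicit false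
set_option linter.unusedSectionVars false

open Cfsg Cfsg.Agent.Blocks.Central
open scoped ComplexConjugate

namespace Cfsg.Agent.H703.KS

universe u

variable {G : Type u} [Group G]

/-- the coefficient of `1` -/
theorem coeff_one_eq_chExt [Fintype G] [Fintype (IrrCharacter G)] (x : MonoidAlgebra ℂ G) :
    x.coeff 1 = ∑ χ : IrrCharacter G, (χ : G → ℂ) 1 / (Nat.card G : ℂ) * chExt (χ : G → ℂ) x := by
  have h1 : ∑ χ : IrrCharacter G, (χ : G → ℂ) 1 / (Nat.card G : ℂ) * chExt (χ : G → ℂ) x =
      ∑ g, x.coeff g * ((Nat.card G : ℂ)⁻¹ * ∑ χ : IrrCharacter G, (χ : G → ℂ) 1 * (χ : G → ℂ) g) := by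
    simp_rw [chExt_apply, Finset.mul_sum]
    rw [Finset.sum_comm]
    refine Finset.sum_congr rfl fun g _ => Finset.sum_congr rfl fun χ _ => ?_
    ring
  rw [h1]
  classical
  have h2 : ∀ g : G, x.coeff g * ((Nat.card G : ℂ)⁻¹ * ∑ χ : IrrCharacter G, (χ : G → ℂ) 1 * (χ : G → ℂ) g)
      = if g = 1 then x.coeff g else 0 := by
    intro g
    rw [Characters.Counting.sum_irr_one_mul]
    split_ifs with hg
    · rw [inv_mul_cancel₀ (by exact_mod_cast Nat.card_pos.ne'), mul_one]
    · simp
  simp_rw [h2]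
  simp

theorem coeff_one_mul_comm {k : Type*} [CommRing k] [Finite G] (x y : MonoidAlgebra k G) :
    (x * y).coeff 1 = (y * x).coeff 1 := by
  have := Fintype.ofFinite G
  rw [coeff_mul_eq_sum, coeff_mul_eq_sum]
  refine Fintype.sum_equiv (Equiv.inv G) _ _ fun g => ?_
  simp [mul_comm]

theorem coeff_mul_single_one' {k : Type*} [CommRing k] (x : MonoidAlgebra k G) (g : G) :
    (x * MonoidAlgebra.single g 1).coeff 1 = x.coeff g⁻¹ := by
  rw [MonoidAlgebra.coeff_mul_single_apply]
  simp

theorem chExt_conj {χ : G → ℂ} (hχ : IsCharacter G χ) (x : MonoidAlgebra ℂ G) (g : G) :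
    chExt χ (MonoidAlgebra.single g⁻¹ 1 * x * MonoidAlgebra.single g 1) = chExt χ x := by
  obtain ⟨n, ρ, rfl⟩ := hχ
  rw [chExt_mul_comm, ← mul_assoc, MonoidAlgebra.single_mul_single]
  simp [← MonoidAlgebra.one_def]

/-- the trace of `x ↦ e x e` -/
theorem sum_coeff_eq [Fintype G] [Fintype (IrrCharacter G)] (e : MonoidAlgebra ℂ G) :
    ∑ g : G, (e * (MonoidAlgebra.single g 1 * e)).coeff g = ∑ χ : IrrCharacter G, (chExt (χ : G → ℂ) e) ^ 2 := by
  set z : MonoidAlgebra ℂ G := ∑ g : G, MonoidAlgebra.single g⁻¹ 1 * e * MonoidAlgebra.single g 1 with hz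
  have hzc : z ∈ Subalgebra.center ℂ (MonoidAlgebra ℂ G) := by
    rw [mem_center_iff]
    intro g h
    rw [hz, MonoidAlgebra.coeff_sum, Finsupp.finsetSum_apply, Finsupp.finsetSum_apply]
    refine Fintype.sum_equiv (Equiv.mulRight h) _ _ fun x => ?_
    simp [MonoidAlgebra.coeff_mul_single_apply, MonoidAlgebra.coeff_single_mul_apply, mul_assoc]
  have h1 : ∑ g : G, (e * (MonoidAlgebra.single g 1 * e)).coeff g = (z * e).coeff 1 := by
    rw [hz, Finset.sum_mul, MonoidAlgebra.coeff_sum, Finsupp.finsetSum_apply]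
    refine Finset.sum_congr rfl fun g _ => ?_
    rw [mul_assoc, mul_assoc, MonoidAlgebra.coeff_single_mul_apply]
    simp
  rw [h1, coeff_one_eq_chExt]
  refine Finset.sum_congr rfl fun χ _ => ?_
  rw [chExt_mul χ.2 hzc]
  have h2 : chExt (χ : G → ℂ) z = (Nat.card G : ℂ) * chExt (χ : G → ℂ) e := by
    have hc : IsCharacter G (χ : G → ℂ) := by
      obtain ⟨n, ρ, _, hρ⟩ := χ.2
      exact ⟨n, ρ, hρ⟩
    rw [hz, map_sum]
    simp_rw [chExt_conj hc]
    simp
  have h3 : (χ : G → ℂ) 1 ≠ 0 := irr_one_ne_zero χ.2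
  have h4 : (Nat.card G : ℂ) ≠ 0 := by exact_mod_cast Nat.card_pos.ne'
  rw [omegaL_eq, h2]
  field_simp

/-! ### the corner over a field -/

section field

variable {K : Type*} [Field K]

/-- `x ↦ e x e` -/
noncomputable def cproj (e : MonoidAlgebra K G) : MonoidAlgebra K G →ₗ[K] MonoidAlgebra K G :=
  LinearMap.mulLeft K e ∘ₗ LinearMap.mulRight K e

theorem cproj_apply (e x : MonoidAlgebra K G) : cproj e x = e * (x * e) := rfl

theorem cproj_of_mem {e : MonoidAlgebra K G} (he : e * e = e) {x : MonoidAlgebra K G}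
    (hx : x ∈ LinearMap.range (cproj e)) : e * x = x ∧ x * e = x := by
  obtain ⟨y, rfl⟩ := hx
  rw [cproj_apply]
  constructor
  · rw [← mul_assoc, he]
  · rw [mul_assoc, mul_assoc, he]

theorem cproj_idem {e : MonoidAlgebra K G} (he : e * e = e) : IsIdempotentElem (cproj e) := by
  refine LinearMap.ext fun x => ?_
  have h := cproj_of_mem he (LinearMap.mem_range_self (cproj e) x)
  change e * (cproj e x * e) = cproj e x
  rw [h.2, h.1]

/-- the basis of the group elements -/
noncomputable def gbasis : Module.Basis G K (MonoidAlgebra K G) :=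
  Module.Basis.ofRepr (MonoidAlgebra.coeffLinearEquiv K)

theorem gbasis_apply (g : G) : (gbasis : Module.Basis G K (MonoidAlgebra K G)) g = MonoidAlgebra.single g 1 := by
  apply (gbasis : Module.Basis G K (MonoidAlgebra K G)).repr.injective
  rw [Module.Basis.repr_self]
  rfl

instance [Finite G] : Module.Finite K (MonoidAlgebra K G) :=
  Module.Finite.of_basis (gbasis : Module.Basis G K (MonoidAlgebra K G))

theorem finrank_corner_trace [Fintype G] {e : MonoidAlgebra K G} (he : e * e = e) :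
    (Module.finrank K ↥(LinearMap.range (cproj e)) : K) =
      ∑ g : G, (e * (MonoidAlgebra.single g 1 * e)).coeff g := by
  classical
  rw [← LinearMap.IsProj.trace (LinearMap.IsIdempotentElem.isProj_range _ (cproj_idem he)),
    LinearMap.trace_eq_matrix_trace K (gbasis : Module.Basis G K (MonoidAlgebra K G)), Matrix.trace]
  refine Finset.sum_congr rfl fun g _ => ?_
  rw [Matrix.diag_apply, LinearMap.toMatrix_apply, gbasis_apply]
  rfl

/-- extension of scalars -/
theorem finrank_corner [Algebra K ℂ] [Fintype G] [Fintype (IrrCharacter G)] {e : MonoidAlgebra K G} (he : e * e = e)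
    (m : IrrCharacter G → ℕ)
    (hm : ∀ χ : IrrCharacter G, ∑ g, algebraMap K ℂ (e.coeff g) * (χ : G → ℂ) g = m χ) :
    Module.finrank K ↥(LinearMap.range (cproj e)) = ∑ χ, m χ ^ 2 := by
  set E : MonoidAlgebra ℂ G := MonoidAlgebra.mapRingHom G (algebraMap K ℂ) e with hE
  have hco : ∀ (x : MonoidAlgebra K G) (g : G),
      (MonoidAlgebra.mapRingHom G (algebraMap K ℂ) x).coeff g = algebraMap K ℂ (x.coeff g) := by
    intro x g
    simp
  have h1 : algebraMap K ℂ (∑ g : G, (e * (MonoidAlgebra.single g 1 * e)).coeff g) =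
      ∑ g : G, (E * (MonoidAlgebra.single g 1 * E)).coeff g := by
    rw [map_sum]
    refine Finset.sum_congr rfl fun g _ => ?_
    rw [← hco, map_mul, map_mul]
    simp [hE]
  rw [← finrank_corner_trace he, sum_coeff_eq, map_natCast] at h1
  have h2 : ∀ χ : IrrCharacter G, chExt (χ : G → ℂ) E = m χ := by
    intro χ
    rw [chExt_apply, ← hm χ]
    refine Finset.sum_congr rfl fun g _ => ?_
    rw [hE, hco]
  simp_rw [h2] at h1
  exact_mod_cast h1

end field

end Cfsg.Agent.H703.KS
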