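import Mathlib
import Cfsg.Prelude.Def_Characters
import Cfsg.Agent.Characters.Core
import Cfsg.Agent.Characters.Counting
import Cfsg.Agent.CharDeep.PowerDegrees

/-!
# Matrix models of characters adapted to an idempotent

`e` an idempotent of the complex group algebra.  Every character `χ` is afforded by an algebra homomorphism
`R : ℂ[G] → Matrix (Fin m ⊕ Fin k)` with `R e = diag (1, 0)`.
-/

set_option autoImplicit false

open Cfsg

namespace Cfsg.Agent.H703.KS

universe u

variable {G : Type u} [Group G]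

/-- A matrix model of `χ` adapted to the idempotent `e`. -/
structure Model (e : MonoidAlgebra ℂ G) (χ : G → ℂ) where
  /-- the rank -/
  m : ℕ
  /-- the corank -/
  k : ℕ
  /-- the homomorphism -/
  R : MonoidAlgebra ℂ G →ₐ[ℂ] Matrix (Fin m ⊕ Fin k) (Fin m ⊕ Fin k) ℂ
  char : ∀ g, Matrix.trace (R (MonoidAlgebra.single g 1)) = χ g
  idem : R e = Matrix.fromBlocks 1 0 0 0

theorem nonempty_model {e : MonoidAlgebra ℂ G} (he : e * e = e) {χ : G → ℂ} (hχ : IsCharacter G χ) :
    Nonempty (Model e χ) := by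
  obtain ⟨n, ρ, hρ⟩ := hχ
  set E : Module.End ℂ (Fin n → ℂ) := ρ.asAlgebraHom e with hEdef
  have hE : E * E = E := by rw [hEdef, ← map_mul, he]
  have hc : IsCompl (LinearMap.range E) (LinearMap.ker E) :=
    LinearMap.IsIdempotentElem.isCompl hE
  let b1 := Module.finBasis ℂ (LinearMap.range E)
  let b2 := Module.finBasis ℂ (LinearMap.ker E)
  let b := (b1.prod b2).map (Submodule.prodEquivOfIsCompl _ _ hc)
  have hl : ∀ i, E (b (Sum.inl i)) = b (Sum.inl i) := by
    intro i
    have h1 : b (Sum.inl i) = (b1 i : Fin n → ℂ) := by simp [b]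
    rw [h1]
    obtain ⟨v, hv⟩ := (b1 i).2
    rw [← hv, ← Module.End.mul_apply, hE]
  have hr : ∀ j, E (b (Sum.inr j)) = 0 := by
    intro j
    have h1 : b (Sum.inr j) = (b2 j : Fin n → ℂ) := by simp [b]
    rw [h1]
    exact (b2 j).2
  refine ⟨⟨_, _, (LinearMap.toMatrixAlgEquiv b).toAlgHom.comp ρ.asAlgebraHom, ?_, ?_⟩⟩
  · intro g
    rw [← hρ]
    change Matrix.trace (LinearMap.toMatrix b b (ρ.asAlgebraHom (MonoidAlgebra.single g 1))) = _
    rw [Representation.asAlgebraHom_single_one, ← LinearMap.trace_eq_matrix_trace]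
    rfl
  · change LinearMap.toMatrix b b E = _
    ext i j
    rw [LinearMap.toMatrix_apply]
    rcases j with j | j
    · rw [hl j, Module.Basis.repr_self]
      rcases i with i | i
      · rw [Matrix.fromBlocks_apply₁₁, Matrix.one_apply, Finsupp.single_apply]
        by_cases h : i = j
        · subst h; simp
        · rw [if_neg h, if_neg (fun h' => h (Sum.inl_injective h').symm)]
      · rw [Matrix.fromBlocks_apply₂₁, Finsupp.single_apply, if_neg (by simp)]
        rfl
    · rw [hr j]
      rcases i with i | i <;> simp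

/-- the trace of the model at an element of the group algebra -/
theorem Model.trace_eq [Fintype G] {e : MonoidAlgebra ℂ G} {χ : G → ℂ} (μ : Model e χ)
    (x : MonoidAlgebra ℂ G) : Matrix.trace (μ.R x) = ∑ g, x.coeff g * χ g := by
  induction x using MonoidAlgebra.induction_linear with
  | zero => simp
  | add x y hx hy => simp [hx, hy, add_mul, Finset.sum_add_distrib]
  | single g r =>
    classical
    have h1 : (MonoidAlgebra.single g r : MonoidAlgebra ℂ G) = r • MonoidAlgebra.single g 1 := by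
      simp
    rw [h1, map_smul, Matrix.trace_smul, μ.char g]
    simp [Finsupp.single_apply]

theorem Model.m_eq [Fintype G] {e : MonoidAlgebra ℂ G} {χ : G → ℂ} (μ : Model e χ) :
    (μ.m : ℂ) = ∑ g, e.coeff g * χ g := by
  rw [← μ.trace_eq, μ.idem, Matrix.trace]
  simp [Fintype.sum_sum_type]

/-- the coefficient of `1` in terms of the models -/
theorem coeff_one_eq [Fintype G] [Fintype (IrrCharacter G)] {e : MonoidAlgebra ℂ G}
    (μ : ∀ χ : IrrCharacter G, Model e (χ : G → ℂ)) (x : MonoidAlgebra ℂ G) :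
    x.coeff 1 = ∑ χ : IrrCharacter G, (χ : G → ℂ) 1 / (Nat.card G : ℂ) * Matrix.trace ((μ χ).R x) := by
  have h1 : ∑ χ : IrrCharacter G, (χ : G → ℂ) 1 / (Nat.card G : ℂ) * Matrix.trace ((μ χ).R x) =
      ∑ g, x.coeff g * ((Nat.card G : ℂ)⁻¹ * ∑ χ : IrrCharacter G, (χ : G → ℂ) 1 * (χ : G → ℂ) g) := by
    simp_rw [Model.trace_eq, Finset.mul_sum]
    rw [Finset.sum_comm]
    refine Finset.sum_congr rfl fun g _ => Finset.sum_congr rfl fun χ _ => ?_
    ring
  rw [h1]
  classical
  have h2 : ∀ g : G, x.coeff g * ((Nat.card G : ℂ)⁻¹ * ∑ χ : IrrCharacter G, (χ : G → ℂ) 1 * (χ : G → ℂ) g)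
      = if g = 1 then x.coeff g else 0 := by
    intro g
    rw [Characters.Counting.sum_irr_one_mul]
    split_ifs with hg
    · rw [inv_mul_cancel₀ (by exact_mod_cast Nat.card_pos.ne'), mul_one]
    · simp
  simp_rw [h2]
  simp

end Cfsg.Agent.H703.KS
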